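import Mathlib

/-! Highest weight vectors of the adjoint representation relative to a basis. -/

set_option autoImplicit false

open LieModule LieAlgebra LieAlgebra.IsKilling Set

namespace Groth.Agent.BorelStableLib

universe u v w

variable {ι : Type u} {K : Type v} {L : Type w} [Fintype ι] [Field K] [CharZero K]
  [IsAlgClosed K] [LieRing L] [LieAlgebra K L] [FiniteDimensional K L] [LieAlgebra.IsSimple K L]
  {H : LieSubalgebra K L} [H.IsCartanSubalgebra] (b : LieAlgebra.Basis ι H)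

/-- Weight space of a linear form. -/
abbrev RS (μ : Module.Dual K H) : Submodule K L := (rootSpace H (μ : H → K)).toSubmodule

omit [Fintype ι] in
theorem lie_of_mem {μ : Module.Dual K H} {x : L} (hx : x ∈ RS μ) (h : H) : ⁅(h : L), x⁆ = μ h • x :=
  lie_eq_smul_of_mem_rootSpace hx h

omit [Fintype ι] in
theorem mem_of_lie {μ : Module.Dual K H} {x : L} (hx : ∀ h : H, ⁅(h : L), x⁆ = μ h • x) : x ∈ RS μ :=
  (mem_genWeightSpace _ _ _).mpr fun h => ⟨1, by simp [hx h]⟩

theorem lie_e (i : ι) {μ : Module.Dual K H} {x : L} (hx : x ∈ RS μ) : ⁅b.e i, x⁆ ∈ RS (μ + b.baseSupp i) := by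
  refine mem_of_lie fun h => ?_
  rw [leibniz_lie, lie_of_mem hx h, ← LieSubalgebra.coe_bracket_of_module, ← b.baseSupp_apply_smul_e i h, smul_lie,
    lie_smul, LinearMap.add_apply, add_smul, add_comm]

theorem lie_f (i : ι) {μ : Module.Dual K H} {x : L} (hx : x ∈ RS μ) : ⁅b.f i, x⁆ ∈ RS (μ - b.baseSupp i) := by
  refine mem_of_lie fun h => ?_
  have h1 := b.baseSupp_apply_smul_f i h
  rw [LieSubalgebra.coe_bracket_of_module] at h1
  rw [leibniz_lie, lie_of_mem hx h, neg_eq_iff_eq_neg.1 h1.symm, neg_lie, smul_lie, lie_smul, LinearMap.sub_apply,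
    sub_smul]
  abel

theorem lie_h (i : ι) {μ : Module.Dual K H} {x : L} (hx : x ∈ RS μ) : ⁅b.h i, x⁆ = μ (b.h' i) • x :=
  lie_of_mem hx (b.h' i)

theorem e_mem (i : ι) : b.e i ∈ RS (b.baseSupp i) := mem_of_lie fun h => by
  rw [← LieSubalgebra.coe_bracket_of_module]; exact (b.baseSupp_apply_smul_e i h).symm

theorem f_mem (i : ι) : b.f i ∈ RS (-b.baseSupp i) := mem_of_lie fun h => by
  have h1 := b.baseSupp_apply_smul_f i h
  rw [LieSubalgebra.coe_bracket_of_module] at h1
  rw [LinearMap.neg_apply, neg_smul, h1, neg_neg]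

/-- Iterated brackets with the lowering generators. -/
def mon (v : L) : List ι → L
  | [] => v
  | i :: l => ⁅b.f i, mon v l⁆

theorem mon_mem {v : L} {χ : Module.Dual K H} (hv : v ∈ RS χ) (l : List ι) :
    mon b v l ∈ RS (χ - (l.map b.baseSupp).sum) := by
  induction l with
  | nil => simpa [mon] using hv
  | cons i l ih =>
    have := lie_f b i ih
    rw [sub_sub, add_comm _ (b.baseSupp i)] at this
    simpa [mon] using this

theorem span_mon_eq_top {v : L} (hv0 : v ≠ 0) {χ : Module.Dual K H} (hv : v ∈ RS χ) (he : ∀ i, ⁅b.e i, v⁆ = 0) :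
    Submodule.span K (range (mon b v)) = ⊤ := by
  let M := Submodule.span K (range (mon b v))
  have hmem : ∀ l, mon b v l ∈ M := fun l => Submodule.subset_span ⟨l, rfl⟩
  have hfM : ∀ k, ∀ y ∈ M, ⁅b.f k, y⁆ ∈ M := fun k y hy => by
    induction hy using Submodule.span_induction with
    | mem y hy => obtain ⟨l', rfl⟩ := hy; exact hmem (k :: l')
    | zero => rw [lie_zero]; exact M.zero_mem
    | add y z _ _ hy hz => rw [lie_add]; exact M.add_mem hy hz
    | smul c y _ hy => rw [lie_smul]; exact M.smul_mem c hy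
  have hfe : ∀ i l, ⁅b.e i, mon b v l⁆ ∈ M := by
    intro i l
    induction l with
    | nil => rw [mon, he]; exact M.zero_mem
    | cons k l ih =>
      rw [mon, leibniz_lie]
      refine M.add_mem ?_ ?_
      · rcases eq_or_ne i k with rfl | hik
        · rw [(b.sl2 i).lie_e_f, lie_h b i (mon_mem b hv l)]
          exact M.smul_mem _ (hmem l)
        · rw [b.lie_e_f_ne i k hik, zero_lie]; exact M.zero_mem
      · exact hfM k _ ih
  let St : LieSubalgebra K L :=
    { carrier := {x | ∀ m ∈ M, ⁅x, m⁆ ∈ M}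
      add_mem' := fun hx hy m hm => by rw [add_lie]; exact M.add_mem (hx m hm) (hy m hm)
      zero_mem' := fun m _ => by rw [zero_lie]; exact M.zero_mem
      smul_mem' := fun c x hx m hm => by rw [smul_lie]; exact M.smul_mem c (hx m hm)
      lie_mem' := fun {x y} hx hy m hm => by
        rw [lie_lie]; exact M.sub_mem (hx _ (hy m hm)) (hy _ (hx m hm)) }
  have hSt : ∀ x, x ∈ St := by
    have h1 : LieSubalgebra.lieSpan K L (range b.e ∪ range b.f) ≤ St := by
      rw [LieSubalgebra.lieSpan_le]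
      rintro _ (⟨i, rfl⟩ | ⟨i, rfl⟩) m hm <;>
        induction hm using Submodule.span_induction with
        | mem y hy =>
          obtain ⟨l, rfl⟩ := hy
          first
            | exact hfe i l
            | exact hmem (i :: l)
        | zero => rw [lie_zero]; exact M.zero_mem
        | add y z _ _ hy hz => rw [lie_add]; exact M.add_mem hy hz
        | smul c y _ hy => rw [lie_smul]; exact M.smul_mem c hy
    rw [b.span_ef] at h1
    exact fun x => h1 (LieSubalgebra.mem_top x)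
  let I : LieIdeal K L := { toSubmodule := M, lie_mem := fun {x m} hm => hSt x m hm }
  rcases LieAlgebra.IsSimple.eq_bot_or_eq_top I with h | h
  · exact absurd ((LieSubmodule.eq_bot_iff I).1 h v (hmem [])) hv0
  · exact eq_top_iff.2 fun x _ => (h.ge (LieSubmodule.mem_top x) : x ∈ I)

theorem mem_span_mon {v : L} (hv0 : v ≠ 0) {χ : Module.Dual K H} (hv : v ∈ RS χ) (he : ∀ i, ⁅b.e i, v⁆ = 0)
    {μ : Module.Dual K H} {x : L} (hx : x ∈ RS μ) :
    x ∈ Submodule.span K (mon b v '' {l | χ - (l.map b.baseSupp).sum = μ}) := by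
  let s : Set (List ι) := {l | χ - (l.map b.baseSupp).sum = μ}
  have hx' : x ∈ Submodule.span K (mon b v '' s) ⊔ Submodule.span K (mon b v '' sᶜ) := by
    rw [← Submodule.span_union, ← Set.image_union, Set.union_compl_self, Set.image_univ, span_mon_eq_top b hv0 hv he]
    trivial
  obtain ⟨y, hy, z, hz, rfl⟩ := Submodule.mem_sup.1 hx'
  have hyμ : y ∈ RS μ := (Submodule.span_le (p := RS μ)).2 (by
    rintro _ ⟨l, hl, rfl⟩
    have := mon_mem b hv l
    rwa [show χ - (l.map b.baseSupp).sum = μ from hl] at this) hy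
  have hzμ : z ∈ RS μ := by simpa using (RS μ).sub_mem hx hyμ
  have hz' : z ∈ (⨆ (ν : H → K) (_ : ν ≠ (μ : H → K)), (rootSpace H ν).toSubmodule : Submodule K L) := by
    refine (Submodule.span_le).2 ?_ hz
    rintro _ ⟨l, hl, rfl⟩
    have hne : ((χ - (l.map b.baseSupp).sum : Module.Dual K H) : H → K) ≠ (μ : H → K) :=
      fun h => hl (DFunLike.coe_injective h)
    exact le_iSup₂ (f := fun (ν : H → K) (_ : ν ≠ (μ : H → K)) => (rootSpace H ν).toSubmodule) _ hne (mon_mem b hv l)
  have h0 : z = 0 := by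
    have hd := LieSubmodule.iSupIndep_toSubmodule.2 (iSupIndep_genWeightSpace K H L)
    exact Submodule.disjoint_def.1 (hd (μ : H → K)) z hzμ hz'
  rw [h0, add_zero]
  exact hy

theorem perm_of_sum_eq {l₁ l₂ : List ι} (h : (l₁.map b.baseSupp).sum = (l₂.map b.baseSupp).sum) : l₁.Perm l₂ := by
  classical
  have hs : ∀ l : List ι, (l.map b.baseSupp).sum = ∑ i, (l.count i : K) • b.baseSupp i := by
    intro l
    induction l with
    | nil => simp
    | cons a l ih =>
      rw [List.map_cons, List.sum_cons, ih]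
      simp only [List.count_cons, Nat.cast_add, add_smul, Finset.sum_add_distrib]
      rw [add_comm]
      congr 1
      simp [Nat.cast_ite, ite_smul]
  rw [hs, hs] at h
  refine List.perm_iff_count.2 fun i => ?_
  exact_mod_cast Fintype.linearIndependent_iffₛ.1 b.linearIndependent_baseSupp _ _ h i

theorem eq_of_killed {v : L} (hv0 : v ≠ 0) {χ : Module.Dual K H} (hv : v ∈ RS χ) (he : ∀ i, ⁅b.e i, v⁆ = 0)
    {ρ : Module.Dual K H} (hρ : RS ρ ≠ ⊥) (htop : ∀ i, rootSpace H (ρ + b.baseSupp i) = ⊥) : χ = ρ := by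
  obtain ⟨r, hr, hr0⟩ := (Submodule.ne_bot_iff _).1 hρ
  have her : ∀ i, ⁅b.e i, r⁆ = 0 := fun i => by
    have h1 : ⁅b.e i, r⁆ ∈ rootSpace H (ρ + b.baseSupp i : Module.Dual K H) := lie_e b i hr
    exact (LieSubmodule.eq_bot_iff _).1 (htop i) _ h1
  have ex : ∀ {a c : L} {α γ : Module.Dual K H}, a ≠ 0 → a ∈ RS α → (∀ i, ⁅b.e i, a⁆ = 0) → c ≠ 0 → c ∈ RS γ →
      ∃ l : List ι, α - (l.map b.baseSupp).sum = γ := by
    intro a c α γ ha hα hea hc hγ
    by_contra hne
    push Not at hne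
    have := mem_span_mon b ha hα hea hγ
    have hs : {l : List ι | α - (l.map b.baseSupp).sum = γ} = (∅ : Set (List ι)) :=
      Set.eq_empty_iff_forall_notMem.2 hne
    erw [hs, Set.image_empty, Submodule.span_empty] at this
    exact hc ((Submodule.mem_bot K).1 this)
  obtain ⟨l₁, h₁⟩ := ex hv0 hv he hr0 hr
  obtain ⟨l₂, h₂⟩ := ex hr0 hr her hv0 hv
  have h : ((l₁ ++ l₂).map b.baseSupp).sum = (([] : List ι).map b.baseSupp).sum := by
    rw [List.map_append, List.sum_append, List.map_nil, List.sum_nil]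
    rw [← h₁, sub_sub] at h₂
    exact sub_eq_self.1 h₂
  have := (perm_of_sum_eq b h).eq_nil
  rw [List.append_eq_nil_iff] at this
  simpa [this.1] using h₁

/-- If a Borel stable subspace is not contained in `S`, it has a weight vector outside `S` raised into `S`. -/
theorem exists_maximal (W S : Submodule K L) (hH : ∀ x ∈ H.toSubmodule, ∀ w ∈ W, ⁅x, w⁆ ∈ W)
    (he : ∀ i, ∀ w ∈ W, ⁅b.e i, w⁆ ∈ W) (hWS : ¬ W ≤ S) :
    ∃ (μ : Module.Dual K H) (x : L), x ∈ W ∧ x ∈ RS μ ∧ x ∉ S ∧ ∀ i, ⁅b.e i, x⁆ ∈ S := by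
  classical
  let W' : LieSubmodule K H L := { toSubmodule := W, lie_mem := fun {h m} hm => hH h h.2 m hm }
  let F : Set (Module.Dual K H) := {μ | ∃ x ∈ W, x ∈ RS μ ∧ x ∉ S}
  have hne : F.Nonempty := by
    by_contra hF
    rw [Set.not_nonempty_iff_eq_empty] at hF
    refine hWS fun x hx => ?_
    have h1 : (⊤ : LieSubmodule K H W') = ⨆ χ : Weight K H W', genWeightSpace W' χ :=
      (iSup_genWeightSpace_eq_top' K H W').symm
    have h2 : (⟨x, hx⟩ : W') ∈ (⨆ χ : Weight K H W', (genWeightSpace W' χ).toSubmodule : Submodule K W') := by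
      rw [← LieSubmodule.iSup_toSubmodule, ← h1]
      trivial
    suffices ∀ y : W', y ∈ (⨆ χ : Weight K H W', (genWeightSpace W' χ).toSubmodule : Submodule K W') → (y : L) ∈ S from
      this _ h2
    intro y hy
    refine Submodule.iSup_induction _ (motive := fun y : W' => (y : L) ∈ S) hy (fun χ z hz => ?_) S.zero_mem
      fun a c ha hc => S.add_mem ha hc
    by_contra hzS
    have hz' : (z : L) ∈ rootSpace H (χ : H → K) :=
      map_genWeightSpace_le (f := W'.incl) ⟨z, hz, rfl⟩
    have : χ.toLinear ∈ F := ⟨z, z.2, hz', hzS⟩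
    rw [hF] at this
    exact this
  obtain ⟨h₀, hh₀⟩ : ∃ h₀ : H, ∀ i, b.baseSupp i h₀ = 1 := by
    let ev : H →ₗ[K] (ι → K) := LinearMap.pi b.baseSupp
    have hsurj : Function.Surjective ev := by
      rw [← LinearMap.range_eq_top, ← Submodule.dualAnnihilator_eq_bot_iff, eq_bot_iff]
      intro φ hφ
      rw [Submodule.mem_dualAnnihilator] at hφ
      rw [Submodule.mem_bot]
      have h1 : ∑ i, φ (Pi.single i 1) • b.baseSupp i = 0 := by
        ext h
        have := hφ (ev h) ⟨h, rfl⟩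
        rw [← Finset.univ_sum_single (ev h), map_sum] at this
        simp only [LinearMap.coe_sum, Finset.sum_apply, LinearMap.smul_apply, smul_eq_mul, LinearMap.zero_apply]
        refine Eq.trans (Finset.sum_congr rfl fun i _ => ?_) this
        rw [show (Pi.single i (ev h i) : ι → K) = (b.baseSupp i h) • Pi.single i (1 : K) by
          ext k; simp [Pi.single_apply, ev], map_smul, smul_eq_mul, mul_comm]
      have h2 := Fintype.linearIndependent_iff.1 b.linearIndependent_baseSupp _ h1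
      exact LinearMap.pi_ext' fun i => LinearMap.ext_ring (by simpa using h2 i)
    obtain ⟨h₀, h⟩ := hsurj fun _ => 1
    exact ⟨h₀, fun i => congrFun h i⟩
  have hfin : ((fun μ : Module.Dual K H => μ h₀) '' F).Finite := by
    refine (Set.finite_range fun χ : Weight K H L => χ h₀).subset ?_
    rintro _ ⟨μ, ⟨x, -, hx, hxS⟩, rfl⟩
    exact ⟨⟨μ, fun h => hxS (by
      have := (LieSubmodule.eq_bot_iff _).1 h x hx
      rw [this]; exact S.zero_mem)⟩, rfl⟩
  obtain ⟨a, ha, ha'⟩ : ∃ a ∈ (fun μ : Module.Dual K H => μ h₀) '' F, a + 1 ∉ (fun μ : Module.Dual K H => μ h₀) '' F := by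
    by_contra hcon
    push Not at hcon
    obtain ⟨μ, hμ⟩ := hne
    have hall : ∀ n : ℕ, μ h₀ + n ∈ (fun μ : Module.Dual K H => μ h₀) '' F := fun n => by
      induction n with
      | zero => exact ⟨μ, hμ, by simp⟩
      | succ n ih =>
        have := hcon _ ih
        rwa [add_assoc, ← Nat.cast_succ] at this
    exact Set.not_infinite.2 hfin ((Set.infinite_range_of_injective (fun m n h => Nat.cast_injective (add_left_cancel h))).mono
      (Set.range_subset_iff.2 hall))
  obtain ⟨μ, ⟨x, hxW, hx, hxS⟩, rfl⟩ := ha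
  refine ⟨μ, x, hxW, hx, hxS, fun i => ?_⟩
  by_contra hi
  exact ha' ⟨μ + b.baseSupp i, ⟨_, he i x hxW, lie_e b i hx, hi⟩, by simp [hh₀]⟩

theorem A_eq_zero_symm {i k : ι} (hik : i ≠ k) (h : b.A i k = 0) : b.A k i = 0 := by
  haveI : IsAddTorsionFree L := .of_isTorsionFree K L
  by_contra hne
  let z : L := ⁅b.f i, b.f k⁆
  have hez : ⁅b.e i, z⁆ = -b.A k i • b.f k := by
    show ⁅b.e i, ⁅b.f i, b.f k⁆⁆ = _
    rw [leibniz_lie, (b.sl2 i).lie_e_f, b.lie_e_f_ne i k hik, lie_zero, add_zero, b.lie_h_f]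
  have hz0 : z ≠ 0 := fun h0 => by
    rw [h0, lie_zero] at hez
    rw [neg_smul, eq_comm, neg_eq_zero, IsAddTorsionFree.zsmul_eq_zero_iff_left (b.sl2 k).f_ne_zero] at hez
    exact hne hez
  have hz : ⁅b.h k, z⁆ = (-2 : K) • z := by
    show ⁅b.h k, ⁅b.f i, b.f k⁆⁆ = _
    rw [leibniz_lie, b.lie_h_f, b.lie_h_f, h, b.A_diag_eq_two, neg_zero, zero_smul, zero_lie, zero_add,
      ← Int.cast_smul_eq_zsmul K, lie_smul]
    norm_num [z]
  have he : ⁅b.e k, z⁆ = 0 := by
    show ⁅b.e k, ⁅b.f i, b.f k⁆⁆ = _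
    rw [leibniz_lie, b.lie_e_f_ne k i hik.symm, zero_lie, zero_add, (b.sl2 k).lie_e_f, ← lie_skew, b.lie_h_f, h]
    simp
  have P : IsSl2Triple.HasPrimitiveVectorWith (b.sl2 k) z (-2 : K) := ⟨hz0, hz, he⟩
  obtain ⟨n, hn⟩ := P.exists_nat
  have : ((n + 2 : ℕ) : K) = 0 := by push_cast; rw [← hn]; ring
  exact absurd (Nat.cast_eq_zero.1 this) (by omega)

end Groth.Agent.BorelStableLib
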