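import Groth.Agent.BorelStableLib.Basic

/-! The top three levels of the adjoint representation. -/

set_option autoImplicit false

open LieModule LieAlgebra LieAlgebra.IsKilling Set

namespace Groth.Agent.BorelStableLib

universe u v w

variable {ι : Type u} {K : Type v} {L : Type w} [Fintype ι] [Field K] [CharZero K]
  [IsAlgClosed K] [LieRing L] [LieAlgebra K L] [FiniteDimensional K L] [LieAlgebra.IsSimple K L]
  {H : LieSubalgebra K L} [H.IsCartanSubalgebra] (b : LieAlgebra.Basis ι H)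

/-- The top levels: `v` of weight `ρ`, `w = [f_j, v]`. -/
structure Top (ρ : Module.Dual K H) (j : ι) where
  v : L
  w : L
  v_ne : v ≠ 0
  w_ne : w ≠ 0
  v_eq : RS ρ = Submodule.span K {v}
  w_eq : RS (ρ - b.baseSupp j) = Submodule.span K {w}
  e_v : ∀ i, ⁅b.e i, v⁆ = 0
  e_w_self : ⁅b.e j, w⁆ = v
  e_w_ne : ∀ i, i ≠ j → ⁅b.e i, w⁆ = 0
  bot : ∀ i, i ≠ j → RS (ρ - b.baseSupp i) = ⊥
  third : ∀ i (x : L), x ∈ RS (ρ - b.baseSupp j - b.baseSupp i) → x ≠ 0 →
    i ≠ j ∧ b.A i j ≠ 0 ∧ ∃ u : L, u ≠ 0 ∧ RS (ρ - b.baseSupp j - b.baseSupp i) = Submodule.span K {u} ∧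
      ⁅b.e j, u⁆ = 0 ∧ (∃ a : K, a ≠ 0 ∧ ⁅b.e i, u⁆ = a • w)

theorem exists_top (ρ : Module.Dual K H) (hρ : rootSpace H ρ ≠ ⊥) (htop : ∀ i, rootSpace H (ρ + b.baseSupp i) = ⊥)
    (j : ι) (hN : ∀ i, ρ (b.h' i) ≠ 0 ↔ i = j) (hj : ρ (b.h' j) = 1) : Nonempty (Top b ρ j) := by
  classical
  haveI : IsAddTorsionFree L := .of_isTorsionFree K L
  have hρ' : RS ρ ≠ ⊥ := fun h => hρ (by rw [← LieSubmodule.toSubmodule_eq_bot]; exact h)
  obtain ⟨v, hv, hv0⟩ := (Submodule.ne_bot_iff _).1 hρ'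
  have hev : ∀ i, ⁅b.e i, v⁆ = 0 := fun i => (LieSubmodule.eq_bot_iff _).1 (htop i) _ (lie_e b i hv)
  have hzero : ∀ i, i ≠ j → ρ (b.h' i) = 0 := fun i hi => by
    by_contra h
    exact hi ((hN i).1 h)
  have hf : ∀ i, i ≠ j → ⁅b.f i, v⁆ = 0 := by
    intro i hi
    have P : IsSl2Triple.HasPrimitiveVectorWith (b.sl2 i) v (((0 : ℕ) : K)) := ⟨hv0, by
      rw [lie_h b i hv, hzero i hi, Nat.cast_zero], hev i⟩
    have := P.pow_toEnd_f_eq_zero_of_eq_nat rfl
    simpa using this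
  let w := ⁅b.f j, v⁆
  have hew : ∀ i, i ≠ j → ⁅b.e i, w⁆ = 0 := fun i hi => by
    show ⁅b.e i, ⁅b.f j, v⁆⁆ = 0
    rw [leibniz_lie, b.lie_e_f_ne i j hi, zero_lie, hev, lie_zero, add_zero]
  have hejw : ⁅b.e j, w⁆ = v := by
    show ⁅b.e j, ⁅b.f j, v⁆⁆ = v
    rw [leibniz_lie, (b.sl2 j).lie_e_f, lie_h b j hv, hj, one_smul, hev, lie_zero, add_zero]
  have hwmem : w ∈ RS (ρ - b.baseSupp j) := lie_f b j hv
  have hw0 : w ≠ 0 := fun h => hv0 (by rw [← hejw, h, lie_zero])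
  have hff : ⁅b.f j, w⁆ = 0 := by
    have P : IsSl2Triple.HasPrimitiveVectorWith (b.sl2 j) v (((1 : ℕ) : K)) := ⟨hv0, by
      rw [lie_h b j hv, hj, one_smul, Nat.cast_one, one_smul], hev j⟩
    have := P.pow_toEnd_f_eq_zero_of_eq_nat rfl
    simpa [pow_succ] using this
  have hsub : ∀ (μ : Module.Dual K H) (t : L), (∀ l : List ι, ρ - (l.map b.baseSupp).sum = μ → mon b v l ∈ Submodule.span K {t}) →
      t ∈ RS μ → RS μ = Submodule.span K {t} := by
    intro μ t h ht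
    refine le_antisymm (fun x hx => ?_) ((Submodule.span_singleton_le_iff_mem _ _).2 ht)
    exact Submodule.span_le.2 (by rintro _ ⟨l, hl, rfl⟩; exact h l hl) (mem_span_mon b hv0 hv hev hx)
  have hperm : ∀ (l l' : List ι), ρ - (l.map b.baseSupp).sum = ρ - (l'.map b.baseSupp).sum → l.Perm l' :=
    fun l l' h => perm_of_sum_eq b (sub_right_injective h)
  have h0 : RS ρ = Submodule.span K {v} := hsub ρ v (fun l hl => by
    rw [(hperm l [] (by simpa using hl)).eq_nil]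
    exact Submodule.mem_span_singleton_self v) hv
  have h1 : RS (ρ - b.baseSupp j) = Submodule.span K {w} := hsub _ w (fun l hl => by
    rw [List.perm_singleton.1 (hperm l [j] (by simpa using hl))]
    exact Submodule.mem_span_singleton_self w) hwmem
  have hbot : ∀ i, i ≠ j → RS (ρ - b.baseSupp i) = ⊥ := fun i hi => by
    rw [← Submodule.span_zero_singleton K]
    refine hsub _ 0 (fun l hl => ?_) (RS _).zero_mem
    rw [List.perm_singleton.1 (hperm l [i] (by simpa using hl))]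
    simp [mon, hf i hi]
  refine ⟨⟨v, w, hv0, hw0, h0, h1, hev, hejw, hew, hbot, fun i x hx hx0 => ?_⟩⟩
  let u := ⁅b.f i, w⁆
  have hu : RS (ρ - b.baseSupp j - b.baseSupp i) = Submodule.span K {u} := by
    refine hsub _ u (fun l hl => ?_) (lie_f b i hwmem)
    have hp := hperm l [j, i] (by simpa [sub_sub] using hl)
    obtain ⟨a, c, rfl⟩ : ∃ a c, l = [a, c] := List.length_eq_two.1 (by rw [hp.length_eq]; rfl)
    show ⁅b.f a, ⁅b.f c, v⁆⁆ ∈ _
    by_cases hc : c = j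
    · rw [hc] at hp ⊢
      have hp' : [j, a].Perm [j, i] := (List.Perm.swap a j []).trans hp
      rw [List.singleton_perm_singleton.1 hp'.cons_inv]
      exact Submodule.mem_span_singleton_self u
    · rw [hf c hc, lie_zero]
      exact Submodule.zero_mem _
  have hu0 : u ≠ 0 := fun h => hx0 (by
    rw [hu, h, Submodule.mem_span_singleton] at hx
    obtain ⟨a, ha⟩ := hx
    rw [← ha, smul_zero])
  have hij : i ≠ j := fun h => hu0 (by show ⁅b.f i, w⁆ = 0; rw [h]; exact hff)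
  have heu : ∀ k, k ≠ i → ⁅b.e k, u⁆ = 0 := fun k hk => by
    show ⁅b.e k, ⁅b.f i, w⁆⁆ = 0
    rw [leibniz_lie, b.lie_e_f_ne k i hk, zero_lie, zero_add]
    by_cases hkj : k = j
    · rw [hkj, hejw, hf i hij]
    · rw [hew k hkj, lie_zero]
  have heiu : ⁅b.e i, u⁆ = (-(b.A j i : K)) • w := by
    show ⁅b.e i, ⁅b.f i, w⁆⁆ = _
    rw [leibniz_lie, (b.sl2 i).lie_e_f, hew i hij, lie_zero, add_zero, lie_h b i hwmem, LinearMap.sub_apply,
      b.baseSupp_apply_h', hzero i hij, zero_sub]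
  have hA : b.A j i ≠ 0 := by
    intro hA
    have hmem : u ∈ RS (ρ - b.baseSupp j - b.baseSupp i) := lie_f b i hwmem
    have hkill : ∀ k, ⁅b.e k, u⁆ = 0 := fun k => by
      by_cases hk : k = i
      · rw [hk, heiu, hA, Int.cast_zero, neg_zero, zero_smul]
      · exact heu k hk
    have h := eq_of_killed b hu0 hmem hkill hρ' htop
    rw [sub_sub, sub_eq_self] at h
    have := (perm_of_sum_eq b (l₁ := [j, i]) (l₂ := []) (by simpa using h)).length_eq
    simp at this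
  exact ⟨hij, fun h => hA (A_eq_zero_symm b hij h), u, hu0, hu, heu j hij.symm, _,
    neg_ne_zero.2 (Int.cast_ne_zero.2 hA), heiu⟩

theorem e_mem_borel (i : ι) : b.e i ∈ H.toSubmodule ⊔ (b.borelUpper : Submodule K L) :=
  Submodule.mem_sup_right (LieSubalgebra.subset_lieSpan (Set.mem_range_self i))

theorem borel_stable_iff (W : Submodule K L) :
    (∀ x ∈ H.toSubmodule ⊔ (b.borelUpper : Submodule K L), ∀ w ∈ W, ⁅x, w⁆ ∈ W) ↔
      (∀ x ∈ H.toSubmodule, ∀ w ∈ W, ⁅x, w⁆ ∈ W) ∧ ∀ i, ∀ w ∈ W, ⁅b.e i, w⁆ ∈ W := by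
  refine ⟨fun h => ⟨fun x hx => h x (Submodule.mem_sup_left hx), fun i => h _ (e_mem_borel b i)⟩, fun ⟨h1, h2⟩ x hx => ?_⟩
  have key : ∀ z ∈ LieSubalgebra.lieSpan K L (range b.e), ∀ w ∈ W, ⁅z, w⁆ ∈ W := fun z hz => by
    induction hz using LieSubalgebra.lieSpan_induction with
    | mem t ht => obtain ⟨i, rfl⟩ := ht; exact h2 i
    | zero => intro w _; rw [zero_lie]; exact W.zero_mem
    | add a c _ _ ha hc => intro w hw; rw [add_lie]; exact W.add_mem (ha w hw) (hc w hw)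
    | smul t a _ ha => intro w hw; rw [smul_lie]; exact W.smul_mem t (ha w hw)
    | lie a c _ _ ha hc => intro w hw; rw [lie_lie]; exact W.sub_mem (ha _ (hc w hw)) (hc _ (ha w hw))
  obtain ⟨y, hy, z, hz, rfl⟩ := Submodule.mem_sup.1 hx
  intro w hw
  rw [add_lie]
  exact W.add_mem (h1 y hy w hw) (key z hz w hw)

theorem eq_of_add {μ ν : Module.Dual K H} {x y : L} (hx : x ∈ RS μ) (hy : y ∈ RS ν) (h : x = y) (h0 : x ≠ 0) :
    μ = ν := by
  by_contra hne
  have hd : Disjoint (RS μ) (RS ν) :=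
    (LieSubmodule.iSupIndep_toSubmodule.2 (iSupIndep_genWeightSpace K H L)).pairwiseDisjoint
      (fun e => hne (DFunLike.coe_injective e))
  exact h0 (Submodule.disjoint_def.1 hd x hx (h ▸ hy))

variable {b} {ρ : Module.Dual K H} {j : ι}

/-- Every nonzero Borel stable subspace contains the top line; if larger, the second line; then a third. -/
theorem structure_of_stable (T : Top b ρ j) (hρ : rootSpace H ρ ≠ ⊥) (htop : ∀ i, rootSpace H (ρ + b.baseSupp i) = ⊥)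
    (W : Submodule K L) (hst : ∀ x ∈ H.toSubmodule ⊔ (b.borelUpper : Submodule K L), ∀ w ∈ W, ⁅x, w⁆ ∈ W) :
    (W ≠ ⊥ → T.v ∈ W) ∧ (¬ W ≤ RS ρ → T.w ∈ W) ∧
      (¬ W ≤ RS ρ ⊔ RS (ρ - b.baseSupp j) → ∃ i x, x ∈ W ∧ x ∈ RS (ρ - b.baseSupp j - b.baseSupp i) ∧ x ≠ 0) := by
  have hρ' : RS ρ ≠ ⊥ := fun h => hρ (by rw [← LieSubmodule.toSubmodule_eq_bot]; exact h)
  obtain ⟨hH, he⟩ := (borel_stable_iff b W).1 hst
  have second : ∀ (μ : Module.Dual K H) (x : L), x ∈ RS μ → x ∉ RS ρ → ∀ i, ⁅b.e i, x⁆ ∈ RS ρ → ⁅b.e i, x⁆ ≠ 0 →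
      μ = ρ - b.baseSupp j := by
    intro μ x hx hxS i hi hi0
    have hμ : μ = ρ - b.baseSupp i := eq_sub_of_add_eq (eq_of_add (lie_e b i hx) hi rfl hi0)
    by_cases hij : i = j
    · rw [hμ, hij]
    · exfalso
      rw [hμ, T.bot i hij] at hx
      exact hxS ((Submodule.mem_bot K).1 hx ▸ (RS ρ).zero_mem)
  refine ⟨fun hW => ?_, fun hW => ?_, fun hW => ?_⟩
  · obtain ⟨μ, x, hxW, hx, hx0, hx'⟩ := exists_maximal b W ⊥ hH he fun h => hW (le_bot_iff.1 h)
    simp only [Submodule.mem_bot] at hx0 hx'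
    rw [eq_of_killed b hx0 hx hx' hρ' htop, T.v_eq, Submodule.mem_span_singleton] at hx
    obtain ⟨c, rfl⟩ := hx
    exact (W.smul_mem_iff (fun hc => hx0 (by rw [hc, zero_smul]))).1 hxW
  · obtain ⟨μ, x, hxW, hx, hxS, hx'⟩ := exists_maximal b W (RS ρ) hH he hW
    have hx0 : x ≠ 0 := fun h => hxS (h ▸ (RS ρ).zero_mem)
    obtain ⟨i, hi⟩ : ∃ i, ⁅b.e i, x⁆ ≠ 0 := by
      by_contra hall
      push Not at hall
      exact hxS (eq_of_killed b hx0 hx hall hρ' htop ▸ hx)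
    rw [second μ x hx hxS i (hx' i) hi, T.w_eq, Submodule.mem_span_singleton] at hx
    obtain ⟨c, rfl⟩ := hx
    exact (W.smul_mem_iff (fun hc => hx0 (by rw [hc, zero_smul]))).1 hxW
  · obtain ⟨μ, x, hxW, hx, hxS, hx'⟩ := exists_maximal b W _ hH he hW
    have hx0 : x ≠ 0 := fun h => hxS (h ▸ Submodule.zero_mem _)
    obtain ⟨i, hi⟩ : ∃ i, ⁅b.e i, x⁆ ≠ 0 := by
      by_contra hall
      push Not at hall
      exact hxS (Submodule.mem_sup_left (eq_of_killed b hx0 hx hall hρ' htop ▸ hx))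
    have hsep : ∀ y : L, y ∈ RS (μ + b.baseSupp i) → y ∈ RS ρ ⊔ RS (ρ - b.baseSupp j) → y ≠ 0 →
        μ + b.baseSupp i = ρ ∨ μ + b.baseSupp i = ρ - b.baseSupp j := by
      intro y hy hy' hy0
      by_contra hne
      push Not at hne
      have hd := LieSubmodule.iSupIndep_toSubmodule.2 (iSupIndep_genWeightSpace K H L)
      refine hy0 (Submodule.disjoint_def.1 (hd ((μ + b.baseSupp i : Module.Dual K H) : H → K)) y hy ?_)
      refine (sup_le ?_ ?_ : RS ρ ⊔ RS (ρ - b.baseSupp j) ≤ _) hy'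
      · exact le_iSup₂ (f := fun (ν : H → K) (_ : ν ≠ _) => (rootSpace H ν).toSubmodule) _
          (fun e => hne.1 (DFunLike.coe_injective e).symm)
      · exact le_iSup₂ (f := fun (ν : H → K) (_ : ν ≠ _) => (rootSpace H ν).toSubmodule) _
          (fun e => hne.2 (DFunLike.coe_injective e).symm)
    rcases hsep _ (lie_e b i hx) (hx' i) hi with h | h
    · exfalso
      have hμ := second μ x hx (fun h' => hxS (Submodule.mem_sup_left h')) i (h ▸ lie_e b i hx) hi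
      exact hxS (Submodule.mem_sup_right (hμ ▸ hx))
    · exact ⟨i, x, hxW, eq_sub_of_add_eq h ▸ hx, hx0⟩

theorem linearIndependent_top (T : Top b ρ j) : LinearIndependent K ![T.v, T.w] := by
  refine LinearIndependent.pair_iff.2 fun s t h => ?_
  have h' := congrArg (fun z => ⁅b.e j, z⁆) h
  simp only [lie_add, lie_smul, T.e_v, T.e_w_self, smul_zero, zero_add, lie_zero, smul_eq_zero, T.v_ne, or_false] at h'
  simp only [h', zero_smul, add_zero, smul_eq_zero, T.v_ne, or_false] at h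
  exact ⟨h, h'⟩

theorem sup_eq_span (T : Top b ρ j) : RS ρ ⊔ RS (ρ - b.baseSupp j) = Submodule.span K (range ![T.v, T.w]) := by
  rw [T.v_eq, T.w_eq, ← Submodule.span_union]
  simp [Matrix.range_cons, Matrix.range_empty]

theorem finrank_sup (T : Top b ρ j) : Module.finrank K ↥(RS ρ ⊔ RS (ρ - b.baseSupp j)) = 2 := by
  rw [sup_eq_span T, finrank_span_eq_card (linearIndependent_top T)]
  simp

/-- A three dimensional stable subspace. -/
theorem three (T : Top b ρ j) (hρ : rootSpace H ρ ≠ ⊥) (htop : ∀ i, rootSpace H (ρ + b.baseSupp i) = ⊥)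
    (W : Submodule K L) (hW : Module.finrank K W = 3)
    (hst : ∀ x ∈ H.toSubmodule ⊔ (b.borelUpper : Submodule K L), ∀ w ∈ W, ⁅x, w⁆ ∈ W) :
    RS ρ ⊔ RS (ρ - b.baseSupp j) ≤ W ∧
    ∃ (i : ι) (u : L) (a : K), i ≠ j ∧ b.A i j ≠ 0 ∧ a ≠ 0 ∧ ⁅b.e j, u⁆ = 0 ∧ ⁅b.e i, u⁆ = a • T.w ∧
      LinearIndependent K ![T.v, T.w, u] ∧ Submodule.span K (range ![T.v, T.w, u]) = W ∧
      W = RS ρ ⊔ RS (ρ - b.baseSupp j) ⊔ RS (ρ - b.baseSupp j - b.baseSupp i) := by
  obtain ⟨s1, s2, s3⟩ := structure_of_stable T hρ htop W hst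
  have h2 := finrank_sup T
  have hne1 : ¬ W ≤ RS ρ := fun h => by
    have h' := Submodule.finrank_mono (h.trans (le_sup_left : RS ρ ≤ RS ρ ⊔ RS (ρ - b.baseSupp j)))
    omega
  have hne2 : ¬ W ≤ RS ρ ⊔ RS (ρ - b.baseSupp j) := fun h => by
    have h' := Submodule.finrank_mono h
    omega
  have hv := s1 fun h => hne1 (h ▸ bot_le)
  have hw := s2 hne1
  have hle : RS ρ ⊔ RS (ρ - b.baseSupp j) ≤ W := by
    rw [T.v_eq, T.w_eq]
    exact sup_le ((Submodule.span_singleton_le_iff_mem _ _).2 hv) ((Submodule.span_singleton_le_iff_mem _ _).2 hw)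
  obtain ⟨i, x, hxW, hx, hx0⟩ := s3 hne2
  obtain ⟨hij, hA, u, hu0, hu, heu, a, ha, hau⟩ := T.third i x hx hx0
  have huW : u ∈ W := by
    rw [hu, Submodule.mem_span_singleton] at hx
    obtain ⟨c, rfl⟩ := hx
    exact (W.smul_mem_iff (fun hc => hx0 (by rw [hc, zero_smul]))).1 hxW
  have hew : ⁅b.e i, T.w⁆ = 0 := T.e_w_ne i hij
  have hind : LinearIndependent K ![T.v, T.w, u] := by
    rw [Fintype.linearIndependent_iff]
    intro g hg
    rw [Fin.sum_univ_three] at hg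
    simp only [Matrix.cons_val_zero, Matrix.cons_val_one, Matrix.cons_val_two, Matrix.tail_cons, Matrix.head_cons] at hg
    have h' := congrArg (fun z => ⁅b.e i, z⁆) hg
    simp only [lie_add, lie_smul, T.e_v, hew, hau, smul_zero, zero_add, lie_zero, smul_smul, smul_eq_zero, T.w_ne,
      or_false, mul_eq_zero, ha] at h'
    rw [h', zero_smul, add_zero] at hg
    obtain ⟨h0', h1'⟩ := LinearIndependent.pair_iff.1 (linearIndependent_top T) _ _ hg
    intro k
    fin_cases k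
    · exact h0'
    · exact h1'
    · exact h'
  have hsp : Submodule.span K (range ![T.v, T.w, u]) = W := by
    refine Submodule.eq_of_le_of_finrank_eq (Submodule.span_le.2 ?_) (by rw [finrank_span_eq_card hind, hW]; simp)
    rintro _ ⟨k, rfl⟩
    fin_cases k
    · exact hv
    · exact hw
    · exact huW
  refine ⟨hle, i, u, a, hij, hA, ha, heu, hau, hind, hsp, ?_⟩
  rw [T.v_eq, T.w_eq, hu, ← Submodule.span_union, ← Submodule.span_union]
  conv_lhs => rw [← hsp]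
  simp [Matrix.range_cons, Matrix.range_empty, Set.union_assoc]

end Groth.Agent.BorelStableLib
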